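import Mathlib

/-! Descent of hermitian congruence data along a localization (helper1). -/

set_option autoImplicit false
set_option linter.style.haveILetI false
universe u v w

namespace Groth.Agent.Lib.Helper1.HermSpread

open scoped TensorProduct

section Kill

variable {T T' : Type*} [CommRing T] [CommRing T'] [Algebra T T'] (N : Submonoid T)
  [IsLocalization N T']

theorem exists_kill {n : ℕ} (X : Matrix (Fin n) (Fin n) T)
    (hX : X.map (algebraMap T T') = 0) : ∃ e ∈ N, ∀ i j, e * X i j = 0 := by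
  have h1 : ∀ i j, ∃ m : N, (m : T) * X i j = 0 := by
    intro i j
    have : algebraMap T T' (X i j) = 0 := by
      have := congrFun (congrFun hX i) j
      simpa using this
    exact (IsLocalization.map_eq_zero_iff N T' _).1 this
  choose m hm using h1
  refine ⟨∏ i, ∏ j, (m i j : T), ?_, ?_⟩
  · exact Submonoid.prod_mem _ fun i _ => Submonoid.prod_mem _ fun j _ => (m i j).2
  · intro i j
    have hd : (m i j : T) ∣ ∏ i, ∏ j, (m i j : T) :=
      (Finset.dvd_prod_of_mem _ (Finset.mem_univ j)).trans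
        (Finset.dvd_prod_of_mem (fun i => ∏ j, (m i j : T)) (Finset.mem_univ i))
    obtain ⟨q, hq⟩ := hd
    rw [hq, mul_comm _ q, mul_assoc, hm, mul_zero]

/-- if `e` kills all entries of `X` and `φ e` is a unit then `X.map φ = 0`. -/
theorem map_eq_zero_of_kill {T'' : Type*} [CommRing T''] (φ : T →+* T'') {n : ℕ}
    (X : Matrix (Fin n) (Fin n) T) (e : T) (he : ∀ i j, e * X i j = 0) (hu : IsUnit (φ e)) :
    X.map φ = 0 := by
  ext i j
  have := congrArg φ (he i j)
  rw [map_mul, map_zero] at this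
  simpa using (hu.mul_right_eq_zero).1 this

theorem descend_matrix (σ : T →+* T) (σ' : T' →+* T')
    (hσ : ∀ x, σ' (algebraMap T T' x) = algebraMap T T' (σ x))
    (hN : ∀ x ∈ N, σ x = x) {n : ℕ} (H H' : Matrix (Fin n) (Fin n) T)
    (v : Matrix (Fin n) (Fin n) T') (hv : IsUnit v)
    (heq : (v.map σ').transpose * H.map (algebraMap T T') * v = H'.map (algebraMap T T')) :
    ∃ t ∈ N, ∀ (T'' : Type w) [CommRing T''] (φ : T →+* T'') (σ'' : T'' →+* T''),
      (∀ x, σ'' (φ x) = φ (σ x)) → IsUnit (φ t) →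
      ∃ v'' : Matrix (Fin n) (Fin n) T'', IsUnit v'' ∧
        (v''.map σ'').transpose * H.map φ * v'' = H'.map φ := by
  obtain ⟨w, hvw, hwv⟩ : ∃ w, v * w = 1 ∧ w * v = 1 := by
    obtain ⟨u, rfl⟩ := hv
    exact ⟨↑u⁻¹, u.mul_inv, u.inv_mul⟩
  obtain ⟨d, hd⟩ := IsLocalization.exist_integer_multiples_of_finite N
    (fun x : Bool × Fin n × Fin n => if x.1 then v x.2.1 x.2.2 else w x.2.1 x.2.2)
  choose F hF using hd
  obtain ⟨V, hVdef⟩ : ∃ V : Matrix (Fin n) (Fin n) T, V = Matrix.of fun i j => F (true, i, j) :=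
    ⟨_, rfl⟩
  obtain ⟨W, hWdef⟩ : ∃ W : Matrix (Fin n) (Fin n) T, W = Matrix.of fun i j => F (false, i, j) :=
    ⟨_, rfl⟩
  set δ : T' := algebraMap T T' d with hδ
  have hV : V.map (algebraMap T T') = δ • v := by
    ext i j
    simp [hVdef, hF, Algebra.smul_def, hδ]
  have hW : W.map (algebraMap T T') = δ • w := by
    ext i j
    simp [hWdef, hF, Algebra.smul_def, hδ]
  have hσd : σ' δ = δ := by rw [hδ, hσ, hN _ d.2]
  have hσV : (V.map σ).map (algebraMap T T') = δ • v.map σ' := by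
    have : (V.map σ).map (algebraMap T T') = (V.map (algebraMap T T')).map σ' := by
      ext i j
      simp [hσ]
    rw [this, hV]
    ext i j
    simp [hσd]
  -- the three matrices to kill
  have h1 : ((V * W - (d : T) ^ 2 • (1 : Matrix (Fin n) (Fin n) T))).map (algebraMap T T') = 0 := by
    rw [Matrix.map_sub (f := algebraMap T T') (fun _ _ => map_sub _ _ _), Matrix.map_mul, hV, hW]
    have : ((d : T) ^ 2 • (1 : Matrix (Fin n) (Fin n) T)).map (algebraMap T T')
        = δ ^ 2 • (1 : Matrix (Fin n) (Fin n) T') := by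
      ext i j
      by_cases hij : i = j <;> simp [hij, Matrix.one_apply, hδ]
    rw [this, Matrix.smul_mul, Matrix.mul_smul, hvw, smul_smul, ← pow_two, sub_self]
  have h2 : ((W * V - (d : T) ^ 2 • (1 : Matrix (Fin n) (Fin n) T))).map (algebraMap T T') = 0 := by
    rw [Matrix.map_sub (f := algebraMap T T') (fun _ _ => map_sub _ _ _), Matrix.map_mul, hV, hW]
    have : ((d : T) ^ 2 • (1 : Matrix (Fin n) (Fin n) T)).map (algebraMap T T')
        = δ ^ 2 • (1 : Matrix (Fin n) (Fin n) T') := by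
      ext i j
      by_cases hij : i = j <;> simp [hij, Matrix.one_apply, hδ]
    rw [this, Matrix.smul_mul, Matrix.mul_smul, hwv, smul_smul, ← pow_two, sub_self]
  have h3 : (((V.map σ).transpose * H * V - (d : T) ^ 2 • H')).map (algebraMap T T') = 0 := by
    rw [Matrix.map_sub (f := algebraMap T T') (fun _ _ => map_sub _ _ _), Matrix.map_mul,
      Matrix.map_mul, Matrix.transpose_map, hσV, hV]
    have : ((d : T) ^ 2 • H').map (algebraMap T T') = δ ^ 2 • H'.map (algebraMap T T') := by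
      ext i j
      simp [hδ]
    rw [this, Matrix.transpose_smul, Matrix.smul_mul, Matrix.smul_mul, Matrix.mul_smul, heq,
      smul_smul, ← pow_two, sub_self]
  obtain ⟨e1, he1N, he1⟩ := exists_kill N _ h1
  obtain ⟨e2, he2N, he2⟩ := exists_kill N _ h2
  obtain ⟨e3, he3N, he3⟩ := exists_kill N _ h3
  refine ⟨d * e1 * e2 * e3, N.mul_mem (N.mul_mem (N.mul_mem d.2 he1N) he2N) he3N, ?_⟩
  intro T'' _ φ σ'' hφ hu
  rw [map_mul, map_mul, map_mul] at hu
  have hu3 : IsUnit (φ e3) := isUnit_of_mul_isUnit_right hu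
  have hu' := isUnit_of_mul_isUnit_left hu
  have hu2 : IsUnit (φ e2) := isUnit_of_mul_isUnit_right hu'
  have hu'' := isUnit_of_mul_isUnit_left hu'
  have hu1 : IsUnit (φ e1) := isUnit_of_mul_isUnit_right hu''
  have hud : IsUnit (φ d) := isUnit_of_mul_isUnit_left hu''
  obtain ⟨ud, hudeq⟩ := hud
  have k1 := map_eq_zero_of_kill φ _ e1 he1 hu1
  have k2 := map_eq_zero_of_kill φ _ e2 he2 hu2
  have k3 := map_eq_zero_of_kill φ _ e3 he3 hu3
  have hone : ((d : T) ^ 2 • (1 : Matrix (Fin n) (Fin n) T)).map φ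
        = (ud : T'') ^ 2 • (1 : Matrix (Fin n) (Fin n) T'') := by
    ext i j
    by_cases hij : i = j <;> simp [hij, Matrix.one_apply, hudeq]
  rw [Matrix.map_sub (f := φ) (fun _ _ => map_sub _ _ _), Matrix.map_mul, hone, sub_eq_zero] at k1 k2
  have hH' : ((d : T) ^ 2 • H').map φ = (ud : T'') ^ 2 • H'.map φ := by
    ext i j
    simp [hudeq]
  rw [Matrix.map_sub (f := φ) (fun _ _ => map_sub _ _ _), Matrix.map_mul, Matrix.map_mul, hH',
    sub_eq_zero, Matrix.transpose_map] at k3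
  have hσu : σ'' ((ud⁻¹ : T''ˣ) : T'') = ((ud⁻¹ : T''ˣ) : T'') := by
    have h1 : σ'' (ud : T'') = ud := by rw [hudeq, hφ, hN _ d.2]
    have h2 : σ'' ((ud⁻¹ : T''ˣ) : T'') * (ud : T'') = 1 := by
      rw [← h1, ← map_mul, Units.inv_mul, map_one]
    exact (Units.eq_inv_of_mul_eq_one_right h2)
  have hinv2 : ((ud⁻¹ : T''ˣ) : T'') * ((ud⁻¹ : T''ˣ) : T'') * (ud : T'') ^ 2 = 1 := by
    rw [pow_two, mul_mul_mul_comm, Units.inv_mul, one_mul]
  refine ⟨((ud⁻¹ : T''ˣ) : T'') • V.map φ, ?_, ?_⟩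
  · rw [Matrix.isUnit_iff_isUnit_det]
    have : ((((ud⁻¹ : T''ˣ) : T'') • V.map φ) * (((ud⁻¹ : T''ˣ) : T'') • W.map φ)) = 1 := by
      rw [Matrix.smul_mul, Matrix.mul_smul, k1, smul_smul, smul_smul, hinv2, one_smul]
    exact IsUnit.of_mul_eq_one _ (by rw [← Matrix.det_mul, this, Matrix.det_one])
  · have hmap : (((ud⁻¹ : T''ˣ) : T'') • V.map φ).map σ''
        = ((ud⁻¹ : T''ˣ) : T'') • (V.map σ).map φ := by
      ext i j
      simp [hσu, hφ]
    rw [hmap, Matrix.transpose_smul, Matrix.smul_mul, Matrix.smul_mul, Matrix.mul_smul, k3,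
      smul_smul, smul_smul, hinv2, one_smul]

end Kill

end Groth.Agent.Lib.Helper1.HermSpread
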