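import Mathlib

/-! The rings `B[X]/(c_k X_k² - a_k)` and `B'[X]/(X_k² - s_k)` (helper1). -/

set_option autoImplicit false
set_option linter.style.haveILetI false
universe u v w

namespace Groth.Agent.Lib.Helper1.HermSpread

open scoped TensorProduct
open MvPolynomial

section Rings

variable {B : Type u} [CommRing B] {l : ℕ} (a c : Fin l → B)

/-- the ideal `(c_k X_k² - a_k)` of `B[X]`. -/
noncomputable abbrev J0 : Ideal (MvPolynomial (Fin l) B) :=
  Ideal.span (Set.range fun k : Fin l => C (c k) * X k ^ 2 - C (a k))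

/-- the stage-0 ring `B[X]/(c_k X_k² - a_k)`. -/
abbrev Q0 : Type u := MvPolynomial (Fin l) B ⧸ J0 a c

variable (B' : Type u) [CommRing B'] [Algebra B B'] (s : Fin l → B'ˣ)

/-- the ideal `(X_k² - s_k)` of `B'[X]`. -/
noncomputable abbrev JJ : Ideal (MvPolynomial (Fin l) B') :=
  Ideal.span (Set.range fun k : Fin l => X k ^ 2 - C (s k : B'))

/-- the ring `B'[X]/(X_k² - s_k)`. -/
abbrev QQ : Type u := MvPolynomial (Fin l) B' ⧸ JJ B' s

variable {a c B' s}

theorem map_mem_JJ (hs : ∀ k, algebraMap B B' (c k) * s k = algebraMap B B' (a k))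
    (x : MvPolynomial (Fin l) B) (hx : x ∈ J0 a c) :
    MvPolynomial.map (algebraMap B B') x ∈ JJ B' s := by
  have : (J0 a c).map (MvPolynomial.map (algebraMap B B')) ≤ JJ B' s := by
    rw [Ideal.map_span, Ideal.span_le]
    rintro _ ⟨_, ⟨k, rfl⟩, rfl⟩
    have : MvPolynomial.map (algebraMap B B') (C (c k) * X k ^ 2 - C (a k))
        = C (algebraMap B B' (c k)) * (X k ^ 2 - C (s k : B')) := by
      simp only [map_sub, map_mul, map_pow, MvPolynomial.map_C, MvPolynomial.map_X]
      rw [← hs k, map_mul]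
      ring
    rw [this]
    exact Ideal.mul_mem_left _ _ (Ideal.subset_span ⟨k, rfl⟩)
  exact this (Ideal.mem_map_of_mem _ hx)

/-- the base change map `B[X]/(c_k X_k² - a_k) → B'[X]/(X_k² - s_k)`. -/
noncomputable def psi (hs : ∀ k, algebraMap B B' (c k) * s k = algebraMap B B' (a k)) :
    Q0 a c →ₐ[B] QQ B' s :=
  Ideal.Quotient.liftₐ (J0 a c)
    ((Ideal.Quotient.mkₐ B (JJ B' s)).comp (MvPolynomial.mapAlgHom (Algebra.ofId B B')))
    (fun x hx => by
      have := map_mem_JJ hs x hx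
      simpa [Ideal.Quotient.eq_zero_iff_mem, Algebra.ofId] using this)

theorem psi_mk (hs : ∀ k, algebraMap B B' (c k) * s k = algebraMap B B' (a k))
    (x : MvPolynomial (Fin l) B) :
    psi hs (Ideal.Quotient.mk _ x) = Ideal.Quotient.mk _ (MvPolynomial.map (algebraMap B B') x) := by
  rfl

theorem isLocalization_QQ (S : Submonoid B) [IsLocalization S B']
    (hs : ∀ k, algebraMap B B' (c k) * s k = algebraMap B B' (a k)) (hc : ∀ k, c k ∈ S) :
    @IsLocalization _ _ (Algebra.algebraMapSubmonoid (Q0 a c) S) (QQ B' s) _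
      (psi hs).toRingHom.toAlgebra := by
  letI := (psi hs).toRingHom.toAlgebra
  letI : Algebra (MvPolynomial (Fin l) B) (MvPolynomial (Fin l) B') :=
    MvPolynomial.algebraMvPolynomial
  have h0 : IsLocalization (S.map (C (σ := Fin l))) (MvPolynomial (Fin l) B') :=
    MvPolynomial.isLocalization S B'
  have H : (Ideal.Quotient.mk (JJ B' s)).comp
      (algebraMap (MvPolynomial (Fin l) B) (MvPolynomial (Fin l) B'))
      = (algebraMap (Q0 a c) (QQ B' s)).comp (Ideal.Quotient.mk (J0 a c)) := by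
    ext x <;> rfl
  have H' : RingHom.ker (Ideal.Quotient.mk (JJ B' s)) ≤
      (RingHom.ker (Ideal.Quotient.mk (J0 a c))).map
        (algebraMap (MvPolynomial (Fin l) B) (MvPolynomial (Fin l) B')) := by
    rw [Ideal.mk_ker, Ideal.mk_ker, Ideal.span_le]
    rintro _ ⟨k, rfl⟩
    obtain ⟨u, hu⟩ := IsLocalization.map_units B' (⟨c k, hc k⟩ : S)
    have e : (X k ^ 2 - C (s k : B') : MvPolynomial (Fin l) B')
        = C ((u⁻¹ : B'ˣ) : B') * algebraMap (MvPolynomial (Fin l) B) (MvPolynomial (Fin l) B')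
            (C (c k) * X k ^ 2 - C (a k)) := by
      rw [MvPolynomial.algebraMap_def]
      simp only [map_sub, map_mul, map_pow, MvPolynomial.map_C, MvPolynomial.map_X]
      rw [← hs k, ← hu]
      simp only [map_mul]
      rw [mul_sub, ← mul_assoc, ← mul_assoc, ← map_mul, Units.inv_mul, map_one, one_mul, one_mul]
    show (X k ^ 2 - C (s k : B') : MvPolynomial (Fin l) B') ∈ _
    rw [e]
    exact Ideal.mul_mem_left _ _ (Ideal.mem_map_of_mem _ (Ideal.subset_span ⟨k, rfl⟩))
  have := IsLocalization.of_surjective (S.map (C (σ := Fin l))) (MvPolynomial (Fin l) B')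
    (Ideal.Quotient.mk (J0 a c)) Ideal.Quotient.mk_surjective
    (Ideal.Quotient.mk (JJ B' s)) Ideal.Quotient.mk_surjective H H'
  have hM : Algebra.algebraMapSubmonoid (Q0 a c) S
      = (S.map (C (σ := Fin l))).map (Ideal.Quotient.mk (J0 a c)) := by
    ext x
    constructor
    · rintro ⟨b, hb, rfl⟩
      exact ⟨C b, ⟨b, hb, rfl⟩, rfl⟩
    · rintro ⟨_, ⟨b, hb, rfl⟩, rfl⟩
      exact ⟨b, hb, rfl⟩
  rw [hM]
  exact this

end Rings

end Groth.Agent.Lib.Helper1.HermSpread
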