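import Groth.Agent.Lib.Helper1.HermSpread.Tensor
import Groth.Agent.Lib.Helper1.HermSpread.Rings

/-! Spreading out hermitian congruence data from `B_p` to `B_b` (helper1). -/

set_option autoImplicit false
set_option linter.style.haveILetI false
universe u v w

namespace Groth.Agent.Lib.Helper1.HermSpread

open scoped TensorProduct
open MvPolynomial

theorem spread (B : Type u) (A : Type v) [CommRing B] [CommRing A]
    [Algebra B A] (lam : A ≃ₐ[B] A)
    (n : ℕ) (h h' : Matrix (Fin n) (Fin n) A)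
    (p : Ideal B) [p.IsPrime]
    (hdata : (∃ (l : ℕ) (s : Fin l → (Localization.AtPrime p)ˣ) (r : ℕ) (f : Fin r → (MvPolynomial (Fin l) (Localization.AtPrime p) ⧸ Ideal.span (Set.range fun k : Fin l => MvPolynomial.X k ^ 2 - MvPolynomial.C (s k : Localization.AtPrime p)))),
        Ideal.span (Set.range f) = ⊤ ∧
        ∀ (i : Fin r) (C : Type u) [CommRing C] [Algebra B C]
          [Algebra (MvPolynomial (Fin l) (Localization.AtPrime p) ⧸ Ideal.span (Set.range fun k : Fin l => MvPolynomial.X k ^ 2 - MvPolynomial.C (s k : Localization.AtPrime p))) C]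
          [IsScalarTower B (MvPolynomial (Fin l) (Localization.AtPrime p) ⧸ Ideal.span (Set.range fun k : Fin l => MvPolynomial.X k ^ 2 - MvPolynomial.C (s k : Localization.AtPrime p))) C]
          [IsLocalization.Away (f i) C],
          ∃ v : Matrix (Fin n) (Fin n) (C ⊗[B] A), IsUnit v ∧
            (v.map (Algebra.TensorProduct.congr (AlgEquiv.refl : C ≃ₐ[C] C) lam)).transpose * h.map (Algebra.TensorProduct.includeRight : A →ₐ[B] C ⊗[B] A) * v = h'.map (Algebra.TensorProduct.includeRight : A →ₐ[B] C ⊗[B] A))) :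
    ∃ b : B, b ∉ p ∧
      (∃ (l : ℕ) (s : Fin l → (Localization.Away b)ˣ) (r : ℕ) (f : Fin r → (MvPolynomial (Fin l) (Localization.Away b) ⧸ Ideal.span (Set.range fun k : Fin l => MvPolynomial.X k ^ 2 - MvPolynomial.C (s k : Localization.Away b)))),
        Ideal.span (Set.range f) = ⊤ ∧
        ∀ (i : Fin r) (C : Type u) [CommRing C] [Algebra B C]
          [Algebra (MvPolynomial (Fin l) (Localization.Away b) ⧸ Ideal.span (Set.range fun k : Fin l => MvPolynomial.X k ^ 2 - MvPolynomial.C (s k : Localization.Away b))) C]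
          [IsScalarTower B (MvPolynomial (Fin l) (Localization.Away b) ⧸ Ideal.span (Set.range fun k : Fin l => MvPolynomial.X k ^ 2 - MvPolynomial.C (s k : Localization.Away b))) C]
          [IsLocalization.Away (f i) C],
          ∃ v : Matrix (Fin n) (Fin n) (C ⊗[B] A), IsUnit v ∧
            (v.map (Algebra.TensorProduct.congr (AlgEquiv.refl : C ≃ₐ[C] C) lam)).transpose * h.map (Algebra.TensorProduct.includeRight : A →ₐ[B] C ⊗[B] A) * v = h'.map (Algebra.TensorProduct.includeRight : A →ₐ[B] C ⊗[B] A)) := by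
  obtain ⟨l, s, r, f, hspan, hv⟩ := hdata
  obtain ⟨S, hSdef⟩ : ∃ S : Submonoid B, S = p.primeCompl := ⟨_, rfl⟩
  obtain ⟨Bp, hBp⟩ : ∃ Bp : Type u, Bp = Localization.AtPrime p := ⟨_, rfl⟩
  subst hBp
  haveI : IsLocalization S (Localization.AtPrime p) := by rw [hSdef]; infer_instance
  -- Step 1: numerators and denominators of the `s k`
  have h1 : ∀ k, ∃ (a c : B), c ∈ S ∧
      algebraMap B (Localization.AtPrime p) c * (s k : Localization.AtPrime p)
        = algebraMap B (Localization.AtPrime p) a := by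
    intro k
    obtain ⟨⟨a, c⟩, hac⟩ := IsLocalization.surj S (s k : Localization.AtPrime p)
    exact ⟨a, c, c.2, by rw [mul_comm]; exact hac⟩
  choose a c hcS hs using h1
  have haS : ∀ k, a k ∈ S := by
    intro k
    have : IsUnit (algebraMap B (Localization.AtPrime p) (a k)) := by
      rw [← hs k]
      exact (IsLocalization.map_units (Localization.AtPrime p) (⟨c k, hcS k⟩ : S)).mul (s k).isUnit
    rw [hSdef]
    exact (IsLocalization.AtPrime.isUnit_to_map_iff (Localization.AtPrime p) p (a k)).1 this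
  -- Step 2: the stage-0 ring
  obtain ⟨ψ, hψdef⟩ : ∃ ψ : Q0 a c →ₐ[B] QQ (Localization.AtPrime p) s, ψ = psi hs := ⟨_, rfl⟩
  letI algψ : Algebra (Q0 a c) (QQ (Localization.AtPrime p) s) := ψ.toRingHom.toAlgebra
  have hψalg : ∀ x, algebraMap (Q0 a c) (QQ (Localization.AtPrime p) s) x = ψ x := fun _ => rfl
  haveI : IsScalarTower B (Q0 a c) (QQ (Localization.AtPrime p) s) :=
    IsScalarTower.of_algebraMap_eq (R := B) (S := Q0 a c) (A := QQ (Localization.AtPrime p) s)
      (fun x => by rw [hψalg, AlgHom.commutes])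
  haveI locQ : IsLocalization (Algebra.algebraMapSubmonoid (Q0 a c) S)
      (QQ (Localization.AtPrime p) s) := by
    subst hψdef
    exact isLocalization_QQ S hs hcS
  obtain ⟨M, hMdef⟩ : ∃ M : Submonoid (Q0 a c), M = Algebra.algebraMapSubmonoid (Q0 a c) S :=
    ⟨_, rfl⟩
  rw [← hMdef] at locQ
  have hMmem : ∀ x ∈ S, algebraMap B (Q0 a c) x ∈ M := by
    intro x hx
    rw [hMdef]
    exact ⟨x, hx, rfl⟩
  have hMmem' : ∀ x ∈ M, ∃ x₀ ∈ S, algebraMap B (Q0 a c) x₀ = x := by
    intro x hx
    rw [hMdef] at hx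
    exact hx
  -- Step 8: numerators of the `f i`
  have h8 : ∀ i, ∃ (g : Q0 a c) (τ : B), τ ∈ S ∧ ψ g = f i * ψ (algebraMap B _ τ) := by
    intro i
    obtain ⟨⟨g, τ⟩, hg⟩ := IsLocalization.surj M (f i)
    obtain ⟨τ₀, hτ₀, hτeq⟩ : ∃ τ₀ ∈ S, algebraMap B (Q0 a c) τ₀ = (τ : Q0 a c) :=
      hMmem' _ τ.2
    exact ⟨g, τ₀, hτ₀, by rw [hτeq]; exact hg.symm⟩
  choose g τ hτS hg using h8
  -- Step 10: the span
  have h10 : ∃ m ∈ S, algebraMap B (Q0 a c) m ∈ Ideal.span (Set.range g) := by
    have htop : (Ideal.span (Set.range g)).map (algebraMap (Q0 a c) (QQ (Localization.AtPrime p) s))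
        = ⊤ := by
      rw [Ideal.map_span, eq_top_iff, ← hspan, Ideal.span_le]
      rintro _ ⟨i, rfl⟩
      have hu : IsUnit (ψ (algebraMap B _ (τ i))) :=
        IsLocalization.map_units (QQ (Localization.AtPrime p) s)
          (⟨_, hMmem _ (hτS i)⟩ : M)
      obtain ⟨u, hu⟩ := hu
      have : f i = ↑u⁻¹ * ψ (g i) := by
        rw [hg i, ← hu, mul_comm (f i), ← mul_assoc, Units.inv_mul, one_mul]
      rw [this]
      exact Ideal.mul_mem_left _ _ (Ideal.subset_span ⟨g i, ⟨i, rfl⟩, rfl⟩)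
    by_contra hcon
    push Not at hcon
    have hdis : Disjoint (M : Set (Q0 a c)) (Ideal.span (Set.range g) : Set (Q0 a c)) := by
      rw [Set.disjoint_left]
      intro x hxM hx
      rw [hMdef] at hxM
      obtain ⟨m, hm, rfl⟩ := hxM
      exact hcon m hm hx
    exact (IsLocalization.map_algebraMap_ne_top_iff_disjoint M (QQ (Localization.AtPrime p) s)
      (Ideal.span (Set.range g))).2 hdis htop
  obtain ⟨m, hmS, hmspan⟩ := h10
  -- Step 4-7
  have h4 : ∀ i, ∃ t₀ : Q0 a c,
      (∃ (k : ℕ) (z z' : B), z ∈ S ∧ z' ∈ S ∧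
        algebraMap B (Q0 a c) z' * (t₀ * (algebraMap B (Q0 a c) (τ i)) ^ k)
          = algebraMap B (Q0 a c) z' * (g i ^ k * algebraMap B (Q0 a c) z)) ∧
      ∀ (C' : Type u) [CommRing C'] [Algebra B C'] (χ : Q0 a c →ₐ[B] C'), IsUnit (χ t₀) →
        ∃ v' : Matrix (Fin n) (Fin n) (C' ⊗[B] A), IsUnit v' ∧
          (v'.map (Algebra.TensorProduct.congr (AlgEquiv.refl : C' ≃ₐ[C'] C') lam)).transpose *
            h.map (Algebra.TensorProduct.includeRight : A →ₐ[B] C' ⊗[B] A) * v'
          = h'.map (Algebra.TensorProduct.includeRight : A →ₐ[B] C' ⊗[B] A) := by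
    intro i
    haveI : IsScalarTower (Q0 a c) (QQ (Localization.AtPrime p) s) (Localization.Away (f i)) :=
      inferInstance
    haveI : IsScalarTower B (Q0 a c) (Localization.Away (f i)) := inferInstance
    haveI : IsLocalization (IsLocalization.localizationLocalizationSubmodule M
        (Submonoid.powers (f i))) (Localization.Away (f i)) :=
      IsLocalization.localization_localization_isLocalization M (Submonoid.powers (f i))
        (Localization.Away (f i))
    obtain ⟨v, hvu, hveq⟩ := hv i (Localization.Away (f i))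
    obtain ⟨t₀, ht₀, huniv⟩ := descend_tensor lam h h' (Q0 a c)
      (IsLocalization.localizationLocalizationSubmodule M (Submonoid.powers (f i)))
      (Localization.Away (f i)) v hvu hveq
    refine ⟨t₀, ?_, huniv⟩
    obtain ⟨⟨_, k, rfl⟩, ⟨zz, hzz⟩, hyz⟩ :=
      IsLocalization.mem_localizationLocalizationSubmodule.1 ht₀
    obtain ⟨z₀, hz₀, rfl⟩ : ∃ z₀ ∈ S, algebraMap B (Q0 a c) z₀ = zz := hMmem' _ hzz
    have hgi : algebraMap (Q0 a c) (QQ (Localization.AtPrime p) s) (g i)
        = f i * algebraMap (Q0 a c) (QQ (Localization.AtPrime p) s) (algebraMap B _ (τ i)) := hg i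
    have heq2 : algebraMap (Q0 a c) (QQ (Localization.AtPrime p) s)
          (t₀ * (algebraMap B _ (τ i)) ^ k)
        = algebraMap (Q0 a c) (QQ (Localization.AtPrime p) s) (g i ^ k * algebraMap B _ z₀) := by
      rw [map_mul, map_mul, map_pow, map_pow, hyz, hgi, mul_pow]
      simp only
      ring
    obtain ⟨⟨zz', hzz'⟩, hc⟩ := IsLocalization.exists_of_eq (M := M) heq2
    obtain ⟨z', hz', rfl⟩ : ∃ z' ∈ S, algebraMap B (Q0 a c) z' = zz' := hMmem' _ hzz'
    exact ⟨k, z₀, z', hz₀, hz', hc⟩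
  choose t₀ hdiv huniv using h4
  choose kk z z' hzS hz'S hdiv using hdiv
  -- Step 11: the element `b`
  obtain ⟨b, hbdef⟩ : ∃ b : B, b = (∏ k, (a k * c k)) * m * ∏ i, (z i * z' i) := ⟨_, rfl⟩
  have hbS : b ∈ S := by
    rw [hbdef]
    refine S.mul_mem (S.mul_mem (Submonoid.prod_mem _ fun k _ => S.mul_mem (haS k) (hcS k)) hmS)
      (Submonoid.prod_mem _ fun i _ => S.mul_mem (hzS i) (hz'S i))
  have hdvd_a : ∀ k, a k ∣ b := fun k => by
    rw [hbdef]
    exact ((Dvd.intro _ rfl).trans (Finset.dvd_prod_of_mem (fun k => a k * c k)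
      (Finset.mem_univ k))).mul_right _ |>.mul_right _
  have hdvd_c : ∀ k, c k ∣ b := fun k => by
    rw [hbdef]
    exact ((Dvd.intro_left _ rfl).trans (Finset.dvd_prod_of_mem (fun k => a k * c k)
      (Finset.mem_univ k))).mul_right _ |>.mul_right _
  have hdvd_m : m ∣ b := by
    rw [hbdef]
    exact (Dvd.intro_left _ rfl).mul_right _
  have hdvd_z : ∀ i, z i ∣ b := fun i => by
    rw [hbdef]
    exact ((Dvd.intro _ rfl).trans (Finset.dvd_prod_of_mem (fun i => z i * z' i)
      (Finset.mem_univ i))).mul_left _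
  have hdvd_z' : ∀ i, z' i ∣ b := fun i => by
    rw [hbdef]
    exact ((Dvd.intro_left _ rfl).trans (Finset.dvd_prod_of_mem (fun i => z i * z' i)
      (Finset.mem_univ i))).mul_left _
  have hunitB : ∀ x, x ∣ b → IsUnit (algebraMap B (Localization.Away b) x) := fun x hx =>
    isUnit_of_dvd_unit (map_dvd _ hx) (IsLocalization.Away.algebraMap_isUnit b)
  refine ⟨b, by rw [hSdef] at hbS; exact hbS, ?_⟩
  -- new units
  obtain ⟨s', hs'def⟩ : ∃ s' : Fin l → (Localization.Away b)ˣ,
      s' = fun k => (hunitB _ (hdvd_a k)).unit * ((hunitB _ (hdvd_c k)).unit)⁻¹ := ⟨_, rfl⟩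
  have hs' : ∀ k, algebraMap B (Localization.Away b) (c k) * (s' k : Localization.Away b)
      = algebraMap B (Localization.Away b) (a k) := by
    intro k
    rw [hs'def]
    simp only [Units.val_mul, IsUnit.unit_spec]
    rw [mul_comm, mul_assoc, IsUnit.val_inv_mul, mul_one]
  obtain ⟨ψb, hψbdef⟩ : ∃ ψb : Q0 a c →ₐ[B] QQ (Localization.Away b) s', ψb = psi hs' := ⟨_, rfl⟩
  have hunitQ : ∀ x, x ∣ b → IsUnit (algebraMap B (QQ (Localization.Away b) s') x) := fun x hx => by
    rw [IsScalarTower.algebraMap_apply B (Localization.Away b) (QQ (Localization.Away b) s')]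
    exact (hunitB x hx).map _
  refine ⟨l, s', r, fun i => ψb (g i), ?_, ?_⟩
  · -- span
    have hmem : ψb (algebraMap B (Q0 a c) m) ∈ Ideal.span (Set.range fun i => ψb (g i)) := by
      have := Ideal.mem_map_of_mem ψb hmspan
      rw [Ideal.map_span, ← Set.range_comp] at this
      exact this
    rw [AlgHom.commutes] at hmem
    exact Ideal.eq_top_of_isUnit_mem _ hmem (hunitQ m hdvd_m)
  · intro i C _ _ _ _ _
    let χ : Q0 a c →ₐ[B] C :=
      (IsScalarTower.toAlgHom B (QQ (Localization.Away b) s') C).comp ψb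
    have hunitC : ∀ x, x ∣ b → IsUnit (algebraMap B C x) := fun x hx => by
      rw [IsScalarTower.algebraMap_apply B (QQ (Localization.Away b) s') C]
      exact (hunitQ x hx).map _
    have hχg : IsUnit (χ (g i)) := by
      show IsUnit (algebraMap (QQ (Localization.Away b) s') C (ψb (g i)))
      exact IsLocalization.Away.algebraMap_isUnit (ψb (g i))
    have hχ : IsUnit (χ (t₀ i)) := by
      have e := congrArg χ (hdiv i)
      simp only [map_mul, map_pow, AlgHom.commutes] at e
      have hR : IsUnit (algebraMap B C (z' i) * (χ (g i) ^ kk i * algebraMap B C (z i))) :=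
        (hunitC _ (hdvd_z' i)).mul ((hχg.pow _).mul (hunitC _ (hdvd_z i)))
      rw [← e] at hR
      exact isUnit_of_dvd_unit ⟨algebraMap B C (z' i) * algebraMap B C (τ i) ^ kk i, by ring⟩ hR
    exact huniv i C χ hχ

end Groth.Agent.Lib.Helper1.HermSpread
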