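import Groth.Agent.Lib.Helper1.HermSpread.Descend

/-! Descent of hermitian congruence data over `C ⊗ A` for a localization `C` of `Q` (helper1). -/

set_option autoImplicit false
set_option linter.style.haveILetI false
universe u v w

namespace Groth.Agent.Lib.Helper1.HermSpread

open scoped TensorProduct

section Tensor

variable {B : Type u} {A : Type v} [CommRing B] [CommRing A] [Algebra B A] (lam : A ≃ₐ[B] A)

theorem descend_tensor {n : ℕ} (h h' : Matrix (Fin n) (Fin n) A)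
    (Q : Type u) [CommRing Q] [Algebra B Q] (N : Submonoid Q)
    (C : Type u) [CommRing C] [Algebra B C] [Algebra Q C] [IsScalarTower B Q C] [IsLocalization N C]
    (v : Matrix (Fin n) (Fin n) (C ⊗[B] A)) (hv : IsUnit v)
    (heq : (v.map (Algebra.TensorProduct.congr (AlgEquiv.refl : C ≃ₐ[C] C) lam)).transpose *
        h.map (Algebra.TensorProduct.includeRight : A →ₐ[B] C ⊗[B] A) * v
      = h'.map (Algebra.TensorProduct.includeRight : A →ₐ[B] C ⊗[B] A)) :
    ∃ t ∈ N, ∀ (C' : Type u) [CommRing C'] [Algebra B C'] (χ : Q →ₐ[B] C'), IsUnit (χ t) →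
      ∃ v' : Matrix (Fin n) (Fin n) (C' ⊗[B] A), IsUnit v' ∧
        (v'.map (Algebra.TensorProduct.congr (AlgEquiv.refl : C' ≃ₐ[C'] C') lam)).transpose *
          h.map (Algebra.TensorProduct.includeRight : A →ₐ[B] C' ⊗[B] A) * v'
        = h'.map (Algebra.TensorProduct.includeRight : A →ₐ[B] C' ⊗[B] A) := by
  let ι : Q ⊗[B] A →ₐ[B] C ⊗[B] A :=
    Algebra.TensorProduct.map (IsScalarTower.toAlgHom B Q C) (AlgHom.id B A)
  letI : Algebra (Q ⊗[B] A) (C ⊗[B] A) := ι.toRingHom.toAlgebra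
  have hι : ∀ x, algebraMap (Q ⊗[B] A) (C ⊗[B] A) x = ι x := fun _ => rfl
  haveI : IsScalarTower Q (Q ⊗[B] A) (C ⊗[B] A) :=
    IsScalarTower.of_algebraMap_eq (fun q => by
      rw [hι, Algebra.TensorProduct.algebraMap_apply, Algebra.TensorProduct.algebraMap_apply]
      simp [ι])
  have Hc : (algebraMap (Q ⊗[B] A) (C ⊗[B] A)).comp
      (Algebra.TensorProduct.includeRight : A →ₐ[B] Q ⊗[B] A).toRingHom
      = (Algebra.TensorProduct.includeRight : A →ₐ[B] C ⊗[B] A).toRingHom := by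
    ext x
    simp [hι, ι]
  haveI := IsLocalization.tensorProduct_tensorProduct B A N C Hc
  let σ : Q ⊗[B] A →+* Q ⊗[B] A :=
    ((Algebra.TensorProduct.congr (AlgEquiv.refl : Q ≃ₐ[Q] Q) lam : _ ≃ₐ[Q] _) : _ →ₐ[Q] _).toRingHom
  let σ' : C ⊗[B] A →+* C ⊗[B] A :=
    ((Algebra.TensorProduct.congr (AlgEquiv.refl : C ≃ₐ[C] C) lam : _ ≃ₐ[C] _) : _ →ₐ[C] _).toRingHom
  have hσ : ∀ x, σ' (algebraMap (Q ⊗[B] A) (C ⊗[B] A) x) = algebraMap _ _ (σ x) := by
    intro x
    induction x using TensorProduct.induction_on with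
    | zero => simp
    | tmul q a => simp [hι, ι, σ, σ']
    | add x y hx hy => simp only [map_add, hx, hy]
  have hN : ∀ x ∈ Algebra.algebraMapSubmonoid (Q ⊗[B] A) N, σ x = x := by
    rintro _ ⟨q, -, rfl⟩
    simp [σ, Algebra.TensorProduct.algebraMap_apply]
  have hHmap : ∀ M : Matrix (Fin n) (Fin n) A,
      (M.map (Algebra.TensorProduct.includeRight : A →ₐ[B] Q ⊗[B] A)).map
        (algebraMap (Q ⊗[B] A) (C ⊗[B] A))
      = M.map (Algebra.TensorProduct.includeRight : A →ₐ[B] C ⊗[B] A) := by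
    intro M
    ext i j
    simp [hι, ι]
  obtain ⟨t, ht, huniv⟩ := descend_matrix.{_, _, max u v}
    (Algebra.algebraMapSubmonoid (Q ⊗[B] A) N) σ σ' hσ hN
    (h.map (Algebra.TensorProduct.includeRight : A →ₐ[B] Q ⊗[B] A))
    (h'.map (Algebra.TensorProduct.includeRight : A →ₐ[B] Q ⊗[B] A)) v hv
    (by rw [hHmap, hHmap]; exact heq)
  obtain ⟨t₀, ht₀, rfl⟩ := ht
  refine ⟨t₀, ht₀, ?_⟩
  intro C' _ _ χ hχ
  let φ : Q ⊗[B] A →ₐ[B] C' ⊗[B] A := Algebra.TensorProduct.map χ (AlgHom.id B A)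
  let σ'' : C' ⊗[B] A →+* C' ⊗[B] A :=
    ((Algebra.TensorProduct.congr (AlgEquiv.refl : C' ≃ₐ[C'] C') lam : _ ≃ₐ[C'] _) : _ →ₐ[C'] _).toRingHom
  have hφ : ∀ x, σ'' (φ.toRingHom x) = φ.toRingHom (σ x) := by
    intro x
    induction x using TensorProduct.induction_on with
    | zero => simp
    | tmul q a => simp [φ, σ, σ'']
    | add x y hx hy => simp only [map_add, hx, hy]
  have hu : IsUnit (φ.toRingHom (algebraMap Q (Q ⊗[B] A) t₀)) := by
    have : φ.toRingHom (algebraMap Q (Q ⊗[B] A) t₀)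
        = (Algebra.TensorProduct.includeLeft : C' →ₐ[B] C' ⊗[B] A) (χ t₀) := by
      simp [φ, Algebra.TensorProduct.algebraMap_apply]
    rw [this]
    exact hχ.map _
  obtain ⟨v'', hv'', heq''⟩ := huniv (C' ⊗[B] A) φ.toRingHom σ'' hφ hu
  refine ⟨v'', hv'', ?_⟩
  have hHmap' : ∀ M : Matrix (Fin n) (Fin n) A,
      (M.map (Algebra.TensorProduct.includeRight : A →ₐ[B] Q ⊗[B] A)).map φ.toRingHom
      = M.map (Algebra.TensorProduct.includeRight : A →ₐ[B] C' ⊗[B] A) := by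
    intro M
    ext i j
    simp [φ]
  rw [hHmap', hHmap'] at heq''
  exact heq''

end Tensor

end Groth.Agent.Lib.Helper1.HermSpread
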